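import Groth.Agent.BlowExistsLib.Proper
import Groth.Agent.BlowCompLib.Compose

/-!
# A high twist of an ideal on a blow-up descends to the base
-/

set_option autoImplicit false
set_option linter.style.haveILetI false
set_option backward.isDefEq.respectTransparency false
set_option backward.isDefEq.respectTransparency.types false
set_option backward.defeqAttrib.useBackward true
set_option maxHeartbeats 800000

universe u

open CategoryTheory CategoryTheory.Limits AlgebraicGeometry TopologicalSpace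

noncomputable section

namespace Groth.Agent.BlowTwistLib

open BlowChartLib BlowExistsLib

variable {X X' : Scheme.{u}} {𝓘 : X.IdealSheafData} {b : X' ⟶ X} (hb : BlowUp.IsBlowUp b 𝓘) {U : X.affineOpens}
  {a c : Γ(X, U.1)}

/-- The pullback of sections of the base to a chart. -/
abbrev pb (𝓘 : X.IdealSheafData) (b : X' ⟶ X) (a : Γ(X, U.1)) : Γ(X, U.1) →+* Γ(X', chartOpen 𝓘 U a b) :=
  (b.appLE U.1 _ (chartOpen_le_preimage b)).hom

include hb in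
theorem exists_chart_equiv (ha : a ∈ 𝓘.ideal U) :
    ∃ ψ : Γ(X', chartOpen 𝓘 U a b) →+* ChartAlg 𝓘 U a, Function.Bijective ψ ∧
      (∀ r, ψ (pb 𝓘 b a r) = algebraMap Γ(X, U.1) (ChartAlg 𝓘 U a) r) ∧
      ∀ (hc : c ∈ 𝓘.ideal U) (s : Γ(X', chartOpen 𝓘 U a b)), ψ s = frac c hc →
        X'.basicOpen s = chartOpen 𝓘 U a b ⊓ chartOpen 𝓘 U c b := by
  let P := Spec (CommRingCat.of (ChartAlg 𝓘 U a))
  let j : P ⟶ X' := emb hb ha
  let V := chartOpen 𝓘 U a b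
  have hV : j.opensRange = V := opensRange_emb hb ha
  have e : (⊤ : P.Opens) ≤ j ⁻¹ᵁ V := fun z _ => hV.le ⟨z, rfl⟩
  have hiso : IsIso (j.appLE V ⊤ e) := by
    haveI := j.isIso_app V hV.ge
    rw [← Category.comp_id (j.appLE V ⊤ e)]
    have h1 : j.appLE V ⊤ e = j.app V ≫ P.presheaf.map (homOfLE e).op := rfl
    haveI : IsIso (P.presheaf.map (homOfLE e).op) := by
      have : (homOfLE e).op = eqToHom (congrArg Opposite.op (le_antisymm le_top e)) := Subsingleton.elim _ _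
      rw [this]
      infer_instance
    rw [Category.comp_id, h1]
    infer_instance
  let ψ := (j.appLE V ⊤ e ≫ (Scheme.ΓSpecIso (CommRingCat.of (ChartAlg 𝓘 U a))).hom).hom
  refine ⟨ψ, ConcreteCategory.bijective_of_isIso (j.appLE V ⊤ e ≫ (Scheme.ΓSpecIso _).hom), fun r => ?_, fun hc s hs => ?_⟩
  · show (Scheme.ΓSpecIso _).hom.hom ((j.appLE V ⊤ e).hom ((b.appLE U.1 V (chartOpen_le_preimage b)).hom r)) = _
    rw [← CategoryTheory.comp_apply (b.appLE U.1 V (chartOpen_le_preimage b)) (j.appLE V ⊤ e),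
      Scheme.Hom.appLE_comp_appLE]
    have h1 : ∀ (g : P ⟶ X) (_ : g = chartMap 𝓘 U a) (e' : ⊤ ≤ g ⁻¹ᵁ U.1),
        (g.appLE U.1 ⊤ e').hom r = (Scheme.ΓSpecIso (CommRingCat.of (ChartAlg 𝓘 U a))).inv.hom (algebraMap _ _ r) := by
      rintro _ rfl e'
      exact appLE_chartMap 𝓘 U a r
    refine (congrArg (Scheme.ΓSpecIso (CommRingCat.of (ChartAlg 𝓘 U a))).hom.hom (h1 _ (emb_comp hb ha) _)).trans ?_
    exact (Scheme.ΓSpecIso (CommRingCat.of (ChartAlg 𝓘 U a))).inv_hom_id_apply _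
  · rw [inf_chartOpen hb ha hc]
    have h2 : j ⁻¹ᵁ X'.basicOpen s = PrimeSpectrum.basicOpen (frac (a := a) c hc) := by
      rw [← hs, Scheme.preimage_basicOpen]
      show P.basicOpen (j.app V s) = PrimeSpectrum.basicOpen ((Scheme.ΓSpecIso _).hom ((P.presheaf.map (homOfLE e).op) (j.app V s)))
      rw [← basicOpen_eq_of_affine', Scheme.basicOpen_res, top_inf_eq]
    show X'.basicOpen s = j ''ᵁ _
    rw [← h2, Scheme.Hom.image_preimage_eq_opensRange_inf, hV, inf_eq_right.2 (X'.basicOpen_le s)]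

include hb in
theorem isAffine (ha : a ∈ 𝓘.ideal U) : IsAffineOpen (chartOpen 𝓘 U a b) := isAffineOpen_chartOpen hb ha

include hb in
theorem pb_mem_nonZeroDivisors (ha : a ∈ 𝓘.ideal U) : pb 𝓘 b a a ∈ nonZeroDivisors Γ(X', chartOpen 𝓘 U a b) := by
  obtain ⟨ψ, hψ, halg, -⟩ := exists_chart_equiv (c := a) hb ha
  refine mem_nonZeroDivisors_iff_right.2 fun z hz => hψ.1 ?_
  rw [map_zero]
  refine mem_nonZeroDivisors_iff_right.1 (BlowChartLib.mem_nonZeroDivisors (I := 𝓘.ideal U) (a := a)) _ ?_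
  rw [← halg, ← map_mul, hz, map_zero]

include hb in
theorem map_pb (ha : a ∈ 𝓘.ideal U) : (𝓘.ideal U).map (pb 𝓘 b a) = Ideal.span {pb 𝓘 b a a} := by
  obtain ⟨ψ, hψ, halg, -⟩ := exists_chart_equiv (c := a) hb ha
  refine le_antisymm (Ideal.map_le_iff_le_comap.2 fun x hx => ?_)
    ((Ideal.span_singleton_le_iff_mem _).2 (Ideal.mem_map_of_mem _ ha))
  obtain ⟨s, hs⟩ := hψ.2 (frac x hx)
  refine Ideal.mem_span_singleton'.2 ⟨s, hψ.1 ?_⟩
  rw [map_mul, hs, halg, halg, frac_mul]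

include hb in
/-- The exceptional ideal on a chart. -/
theorem comap_ideal_chart (ha : a ∈ 𝓘.ideal U) :
    (𝓘.comap b).ideal ⟨chartOpen 𝓘 U a b, isAffine hb ha⟩ = Ideal.span {pb 𝓘 b a a} :=
  (IdealStalkLib.comap_ideal 𝓘 b U.2 (isAffine hb ha) (chartOpen_le_preimage b)).trans (map_pb hb ha)

include hb in
/-- A section on a chart is a fraction with numerator a section of a power of the centre. -/
theorem exists_section (ha : a ∈ 𝓘.ideal U) (t : Γ(X', chartOpen 𝓘 U a b)) :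
    ∃ k : ℕ, ∃ c ∈ 𝓘.ideal U ^ k, pb 𝓘 b a c = t * pb 𝓘 b a a ^ k := by
  obtain ⟨ψ, hψ, halg, -⟩ := exists_chart_equiv (c := a) hb ha
  suffices h : ∀ z : ChartAlg 𝓘 U a, ∃ k : ℕ, ∃ c ∈ 𝓘.ideal U ^ k,
      algebraMap Γ(X, U.1) (ChartAlg 𝓘 U a) c = z * algebraMap Γ(X, U.1) (ChartAlg 𝓘 U a) a ^ k by
    obtain ⟨k, c, hc, h⟩ := h (ψ t)
    exact ⟨k, c, hc, hψ.1 (by rw [map_mul, map_pow, halg, halg, h])⟩
  intro z
  refine induction_frac (P := fun z => ∃ k : ℕ, ∃ c ∈ 𝓘.ideal U ^ k,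
      algebraMap Γ(X, U.1) (ChartAlg 𝓘 U a) c = z * algebraMap Γ(X, U.1) (ChartAlg 𝓘 U a) a ^ k)
    (fun r => ⟨0, r, by simp, by rw [pow_zero, mul_one]⟩)
    (fun x hx => ⟨1, x, by rwa [pow_one], by rw [pow_one, frac_mul]⟩) ?_ ?_ z
  · rintro x y ⟨k, c, hc, h⟩ ⟨l, d, hd, h'⟩
    refine ⟨k + l, c * a ^ l + d * a ^ k, add_mem ?_ ?_, ?_⟩
    · exact pow_add (𝓘.ideal U) k l ▸ Ideal.mul_mem_mul hc (Ideal.pow_mem_pow ha l)
    · rw [add_comm k l]
      exact pow_add (𝓘.ideal U) l k ▸ Ideal.mul_mem_mul hd (Ideal.pow_mem_pow ha k)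
    · rw [map_add, map_mul, map_mul, map_pow, map_pow, h, h', pow_add]
      ring
  · rintro x y ⟨k, c, hc, h⟩ ⟨l, d, hd, h'⟩
    refine ⟨k + l, c * d, pow_add (𝓘.ideal U) k l ▸ Ideal.mul_mem_mul hc hd, ?_⟩
    rw [map_mul, h, h', pow_add]
    ring

include hb in
/-- A section of the k-th power of the centre is divisible by the k-th power of the generator on a chart. -/
theorem exists_div (ha : a ∈ 𝓘.ideal U) {k : ℕ} (hc : c ∈ 𝓘.ideal U ^ k) : ∃ u, pb 𝓘 b a c = u * pb 𝓘 b a a ^ k := by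
  have h := Ideal.mem_map_of_mem (pb 𝓘 b a) hc
  rw [Ideal.map_pow, map_pb hb ha, Ideal.span_singleton_pow] at h
  obtain ⟨u, hu⟩ := Ideal.mem_span_singleton'.1 h
  exact ⟨u, hu.symm⟩

include hb in
/-- After multiplying by a power of the generator, the numerator lies in the twisted ideal on another chart. -/
theorem exists_bound {d : Γ(X, U.1)} (ha : a ∈ 𝓘.ideal U) (hd : d ∈ 𝓘.ideal U) (𝒥 : X'.IdealSheafData) {k : ℕ}
    {t : Γ(X', chartOpen 𝓘 U a b)} (ht : t ∈ 𝒥.ideal ⟨_, isAffine hb ha⟩) (hc : c ∈ 𝓘.ideal U ^ k)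
    (htc : pb 𝓘 b a c = t * pb 𝓘 b a a ^ k) :
    ∃ m₀ : ℕ, k ≤ m₀ ∧ ∀ m, m₀ ≤ m → pb 𝓘 b d (a ^ (m - k) * c) ∈
      (𝒥 * (𝓘.comap b) ^ m).ideal ⟨chartOpen 𝓘 U d b, isAffine hb hd⟩ := by
  obtain ⟨ψ, hψ, halg, hbas⟩ := exists_chart_equiv (c := a) hb hd
  obtain ⟨g, hg⟩ := hψ.2 (frac a ha)
  have hW : X'.basicOpen g = chartOpen 𝓘 U d b ⊓ chartOpen 𝓘 U a b := hbas ha g hg
  have hgd : g * pb 𝓘 b d d = pb 𝓘 b d a := hψ.1 (by rw [map_mul, hg, halg, halg, frac_mul])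
  obtain ⟨u, hu⟩ := exists_div hb hd hc
  let Vd : X'.affineOpens := ⟨chartOpen 𝓘 U d b, isAffine hb hd⟩
  have id : X'.basicOpen g ≤ chartOpen 𝓘 U d b := X'.basicOpen_le g
  have ia : X'.basicOpen g ≤ chartOpen 𝓘 U a b := hW.le.trans inf_le_right
  let ρd : Γ(X', Vd.1) →+* Γ(X', X'.basicOpen g) := (X'.presheaf.map (homOfLE id).op).hom
  let ρa : Γ(X', chartOpen 𝓘 U a b) →+* Γ(X', X'.basicOpen g) := (X'.presheaf.map (homOfLE ia).op).hom
  letI : Algebra Γ(X', Vd.1) Γ(X', X'.basicOpen g) := ρd.toAlgebra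
  haveI : IsLocalization.Away g Γ(X', X'.basicOpen g) := Vd.2.isLocalization_basicOpen g
  have hagree : ∀ r, ρa (pb 𝓘 b a r) = ρd (pb 𝓘 b d r) := fun r =>
    (ConcreteCategory.congr_hom (Scheme.Hom.appLE_map b (chartOpen_le_preimage b) (homOfLE ia).op) r).trans
      (ConcreteCategory.congr_hom (Scheme.Hom.appLE_map b (chartOpen_le_preimage b) (homOfLE id).op) r).symm
  have hnzd : ρd (pb 𝓘 b d d) ^ k ∈ nonZeroDivisors Γ(X', X'.basicOpen g) :=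
    pow_mem (IsLocalization.map_nonZeroDivisors_le (Submonoid.powers g) Γ(X', X'.basicOpen g)
      ⟨_, pb_mem_nonZeroDivisors hb hd, rfl⟩) k
  have huW : ρd u = ρa t * ρd g ^ k := by
    refine (mul_cancel_right_mem_nonZeroDivisors hnzd).1 ?_
    rw [← map_pow, ← map_mul, ← hu, ← hagree, htc, map_mul, map_pow, hagree, ← hgd, map_mul, map_pow, mul_pow]
    ring
  have hmem : ρd u ∈ (𝒥.ideal Vd).map ρd := by
    rw [huW]
    have h1 : ρa t ∈ 𝒥.ideal (X'.affineBasicOpen (U := Vd) g) :=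
      𝒥.ideal_le_comap_ideal (U := X'.affineBasicOpen (U := Vd) g) (V := ⟨_, isAffine hb ha⟩) ia ht
    rw [← 𝒥.map_ideal_basicOpen Vd g] at h1
    exact Ideal.mul_mem_right _ _ h1
  obtain ⟨_, ⟨r, rfl⟩, hr⟩ := (IsLocalization.algebraMap_mem_map_algebraMap_iff (Submonoid.powers g)
    Γ(X', X'.basicOpen g) _ _).1 hmem
  refine ⟨k + r, le_self_add, fun m hm => ?_⟩
  have hcalc : pb 𝓘 b d (a ^ (m - k) * c) = (g ^ (m - k - r) * (g ^ r * u)) * pb 𝓘 b d d ^ m := by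
    rw [map_mul, map_pow, hu, ← hgd, mul_pow]
    have e1 : g ^ (m - k) = g ^ (m - k - r) * g ^ r := by rw [← pow_add]; congr 1; omega
    have e2 : pb 𝓘 b d d ^ m = pb 𝓘 b d d ^ (m - k) * pb 𝓘 b d d ^ k := by rw [← pow_add]; congr 1; omega
    rw [e1, e2]
    ring
  rw [hcalc, Scheme.IdealSheafData.ideal_mul, Pi.mul_apply, Scheme.IdealSheafData.ideal_pow, Pi.pow_apply,
    comap_ideal_chart hb hd, Ideal.span_singleton_pow]
  exact Ideal.mul_mem_mul (Ideal.mul_mem_left _ _ hr) (Ideal.mem_span_singleton_self _)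

/-- A section of the base lies in the direct image of an ideal when it does so on a cover. -/
theorem mem_map_of_cover [QuasiCompact b] (K : X'.IdealSheafData) (c : Γ(X, U.1))
    (hcov : ∀ z ∈ b ⁻¹ᵁ U.1, ∃ (V : X'.affineOpens) (e : V.1 ≤ b ⁻¹ᵁ U.1), z ∈ V.1 ∧
      (b.appLE U.1 V.1 e).hom c ∈ K.ideal V) : c ∈ (K.map b).ideal U := by
  let g := K.subschemeι
  show c ∈ (g ≫ b).ker.ideal U
  rw [Scheme.Hom.ker_apply, RingHom.mem_ker]
  have key : ∀ z : ((g ≫ b) ⁻¹ᵁ U.1 : K.subscheme.Opens),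
      ∃ (D : K.subscheme.Opens) (i : D ≤ (g ≫ b) ⁻¹ᵁ U.1), z.1 ∈ D ∧ (g ≫ b).appLE U.1 D i c = 0 := fun z => by
    obtain ⟨V, e, hzV, hV⟩ := hcov (g z.1) z.2
    refine ⟨g ⁻¹ᵁ V.1, fun w hw => e hw, hzV, ?_⟩
    rw [← K.ker_subschemeι_app V, RingHom.mem_ker] at hV
    refine Eq.trans ?_ hV
    rw [Scheme.Hom.app_eq_appLE]
    exact (ConcreteCategory.congr_hom (Scheme.Hom.appLE_comp_appLE g b U.1 V.1 (g ⁻¹ᵁ V.1) e le_rfl) c).symm
  choose D i hzD hD using key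
  refine TopCat.Sheaf.eq_of_locally_eq' K.subscheme.sheaf D ((g ≫ b) ⁻¹ᵁ U.1) (fun z => homOfLE (i z))
    (fun z hz => Opens.mem_iSup.2 ⟨⟨z, hz⟩, hzD ⟨z, hz⟩⟩) _ 0 fun z => ?_
  rw [map_zero]
  refine Eq.trans ?_ (hD z)
  rfl

include hb in
theorem exists_le_comap_map_chart (hft : BlowUp.IsFiniteTypeIdeal 𝓘) (𝒥 : X'.IdealSheafData)
    (hJ : BlowUp.IsFiniteTypeIdeal 𝒥) (s : Finset Γ(X, U.1)) (hs : Ideal.span (s : Set Γ(X, U.1)) = 𝓘.ideal U) :
    ∃ m₀ : ℕ, ∀ m, m₀ ≤ m → ∀ (a : Γ(X, U.1)) (ha : a ∈ 𝓘.ideal U), a ∈ s →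
      (𝒥 * (𝓘.comap b) ^ m).ideal ⟨_, isAffine hb ha⟩ ≤
        ((((𝒥 * (𝓘.comap b) ^ m).map b).comap b)).ideal ⟨_, isAffine hb ha⟩ := by
  classical
  haveI := quasiCompact_of_FG hb hft
  have hsI : ∀ a ∈ s, a ∈ 𝓘.ideal U := fun a ha => hs ▸ Ideal.subset_span ha
  choose G hG using fun a : s => hJ ⟨_, isAffine hb (hsI a.1 a.2)⟩
  choose k c hc htc using fun (a : s) (t : G a) => exists_section hb (hsI a.1 a.2) t.1
  choose B hkB hB using fun (a : s) (t : G a) (d : s) => exists_bound hb (hsI a.1 a.2) (hsI d.1 d.2) 𝒥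
    ((hG a).le (Ideal.subset_span t.2)) (hc a t) (htc a t)
  refine ⟨Finset.univ.sup fun a : s => Finset.univ.sup fun t : G a => (Finset.univ.sup fun d : s => B a t d) ⊔ k a t,
    fun m hm a ha has => ?_⟩
  let a' : s := ⟨a, has⟩
  let M := (𝒥 * (𝓘.comap b) ^ m).map b
  let Va : X'.affineOpens := ⟨_, isAffine hb ha⟩
  have hbound : ∀ (t : G a') (d : s), B a' t d ≤ m ∧ k a' t ≤ m := fun t d => by
    have h1 : ((Finset.univ.sup fun d : s => B a' t d) ⊔ k a' t) ≤ m :=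
      ((Finset.le_sup (f := fun t : G a' => (Finset.univ.sup fun d : s => B a' t d) ⊔ k a' t) (Finset.mem_univ t)).trans
        (Finset.le_sup (f := fun a : s => Finset.univ.sup fun t : G a => (Finset.univ.sup fun d : s => B a t d) ⊔ k a t)
          (Finset.mem_univ a'))).trans hm
    exact ⟨(Finset.le_sup (f := fun d : s => B a' t d) (Finset.mem_univ d)).trans (le_sup_left.trans h1),
      le_sup_right.trans h1⟩
  rw [Scheme.IdealSheafData.ideal_mul, Pi.mul_apply, Scheme.IdealSheafData.ideal_pow, Pi.pow_apply,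
    comap_ideal_chart hb ha, Ideal.span_singleton_pow, ← hG a', Ideal.span_mul_span', Ideal.span_le]
  rintro _ ⟨t, ht, _, rfl, rfl⟩
  have hk : k a' ⟨t, ht⟩ ≤ m := (hbound ⟨t, ht⟩ a').2
  rw [IdealStalkLib.comap_ideal M b U.2 (isAffine hb ha) (chartOpen_le_preimage b)]
  have e1 : pb 𝓘 b a (a ^ (m - k a' ⟨t, ht⟩) * c a' ⟨t, ht⟩) = t * pb 𝓘 b a a ^ m := by
    rw [map_mul, map_pow]
    refine (congrArg (_ * ·) (htc a' ⟨t, ht⟩)).trans ?_
    show pb 𝓘 b a a ^ (m - k a' ⟨t, ht⟩) * (t * pb 𝓘 b a a ^ k a' ⟨t, ht⟩) = _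
    rw [mul_left_comm, ← pow_add, Nat.sub_add_cancel hk]
  show t * pb 𝓘 b a a ^ m ∈ _
  rw [← e1]
  refine Ideal.mem_map_of_mem _ (mem_map_of_cover _ _ fun z hz => ?_)
  obtain ⟨d, hd, hzd⟩ := exists_mem_chartOpen 𝓘 U b hb s hs z hz
  exact ⟨⟨_, isAffine hb (hsI d hd)⟩, chartOpen_le_preimage b, hzd,
    hB a' ⟨t, ht⟩ ⟨d, hd⟩ m (hbound ⟨t, ht⟩ ⟨d, hd⟩).1⟩

include hb in
/-- A high twist of an ideal of finite type on a blow-up is the inverse image of its direct image. -/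
theorem exists_comap_map_eq [CompactSpace X] (hft : BlowUp.IsFiniteTypeIdeal 𝓘) (𝒥 : X'.IdealSheafData)
    (hJ : BlowUp.IsFiniteTypeIdeal 𝒥) :
    ∃ m₀ : ℕ, ∀ m, m₀ ≤ m →
      ((𝒥 * (𝓘.comap b) ^ m).map b).comap b = 𝒥 * (𝓘.comap b) ^ m := by
  classical
  obtain ⟨T, hT⟩ := isCompact_univ.elim_finite_subcover (fun U : X.affineOpens => (U.1 : Set X)) (fun U => U.1.2)
    (fun x _ => Set.mem_iUnion.2 (by
      obtain ⟨_, ⟨W, hW, rfl⟩, hxW, -⟩ :=
        X.isBasis_affineOpens.exists_subset_of_mem_open (Set.mem_univ x) isOpen_univ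
      exact ⟨⟨W, hW⟩, hxW⟩))
  choose s hs using fun U : X.affineOpens => hft U
  choose B hB using fun U : X.affineOpens => exists_le_comap_map_chart hb hft 𝒥 hJ (s U) (hs U)
  refine ⟨T.sup B, fun m hm => ?_⟩
  let ι := Σ U : {U : X.affineOpens // U ∈ T}, {a : Γ(X, U.1.1) // a ∈ s U.1}
  have hI : ∀ i : ι, i.2.1 ∈ 𝓘.ideal i.1.1 := fun i => hs i.1.1 ▸ Ideal.subset_span i.2.2
  refine Scheme.IdealSheafData.ext_of_iSup_eq_top (fun i : ι => ⟨_, isAffine hb (hI i)⟩) ?_ fun i => ?_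
  · refine top_le_iff.1 fun z _ => ?_
    obtain ⟨U, hU, hzU⟩ := Set.mem_iUnion₂.1 (hT (Set.mem_univ (b z)))
    obtain ⟨a, ha, hza⟩ := exists_mem_chartOpen 𝓘 U b hb (s U) (hs U) z hzU
    exact Opens.mem_iSup.2 ⟨⟨⟨U, hU⟩, a, ha⟩, hza⟩
  · exact le_antisymm ((Scheme.IdealSheafData.comap_map_le (𝒥 * (𝓘.comap b) ^ m) b :) _)
      (hB i.1.1 m ((Finset.le_sup i.1.2).trans hm) _ (hI i) i.2.2)

end Groth.Agent.BlowTwistLib
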