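import Groth.Agent.BlowTwistLib.Basic
import Groth.Agent.FTIdealLib.Basic
import Groth.Prelude.Def_FSch3

/-!
# Ideals which come from the base: locality and finite type
-/

set_option autoImplicit false
set_option linter.style.haveILetI false
set_option backward.isDefEq.respectTransparency false
set_option backward.isDefEq.respectTransparency.types false
set_option maxHeartbeats 800000

universe u

open CategoryTheory CategoryTheory.Limits AlgebraicGeometry TopologicalSpace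

noncomputable section

namespace Groth.Agent.BlowTwistLib

variable {X X' : Scheme.{u}} (f : X' ⟶ X)

/-- An open immersion of an open is surjective on sections over smaller opens. -/
theorem bijective_appLE_ι (U : X.Opens) {S : X.Opens} (hS : S ≤ U) :
    Function.Bijective (U.ι.appLE S (U.ι ⁻¹ᵁ S) le_rfl).hom := by
  have h1 : S ≤ U.ι.opensRange := by rw [Scheme.Opens.opensRange_ι]; exact hS
  haveI := U.ι.isIso_app S h1
  rw [← Scheme.Hom.app_eq_appLE]
  exact ConcreteCategory.bijective_of_isIso (U.ι.app S)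

theorem isAffineOpen_preimage_ι (U : X.Opens) {S : X.Opens} (hS : S ≤ U) (hSa : IsAffineOpen S) :
    IsAffineOpen (U.ι ⁻¹ᵁ S) :=
  hSa.preimage_of_isOpenImmersion U.ι (by rw [Scheme.Opens.opensRange_ι]; exact hS)

/-- An ideal over an open whose inverse image is the restriction of `K` lies in the direct image of `K`. -/
theorem le_map_of_comap_restrict [QuasiCompact f] (U : X.Opens) (K : X'.IdealSheafData)
    (D : (U : Scheme.{u}).IdealSheafData) (hD : D.comap (f ∣_ U) ≤ K.comap (f ⁻¹ᵁ U).ι) :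
    D ≤ (K.map f).comap U.ι := by
  intro S a ha
  let S' := U.ι ''ᵁ S.1
  have hS' : IsAffineOpen S' := S.2.image_of_isOpenImmersion U.ι
  have hS'U : S' ≤ U := by rintro _ ⟨y, -, rfl⟩; exact y.2
  have eS : U.ι ⁻¹ᵁ S' = S.1 := Scheme.Hom.preimage_image_eq _ _
  obtain ⟨T, hT, rfl⟩ : ∃ (T : (U : Scheme.{u}).Opens) (hT : IsAffineOpen T), S = ⟨T, hT⟩ := ⟨S.1, S.2, rfl⟩
  change U.ι ⁻¹ᵁ S' = T at eS
  clear_value S'
  subst eS
  obtain ⟨a', rfl⟩ := (bijective_appLE_ι U hS'U).2 a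
  rw [IdealStalkLib.comap_ideal _ U.ι hS' hT le_rfl]
  refine Ideal.mem_map_of_mem _ (mem_map_of_cover (b := f) (U := ⟨S', hS'⟩) K a' fun z hz => ?_)
  obtain ⟨V, hV, hzV, hVle⟩ := Opens.isBasis_iff_nbhd.mp X'.isBasis_affineOpens (U := f ⁻¹ᵁ S') hz
  refine ⟨⟨V, hV⟩, hVle, hzV, ?_⟩
  have hVW : V ≤ f ⁻¹ᵁ U := fun w hw => hS'U (hVle hw)
  let W := f ⁻¹ᵁ U
  have hV' : IsAffineOpen (W.ι ⁻¹ᵁ V) := isAffineOpen_preimage_ι W hVW hV
  have e2 : W.ι ⁻¹ᵁ V ≤ (f ∣_ U) ⁻¹ᵁ (U.ι ⁻¹ᵁ S') := fun w hw => by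
    show U.ι ((f ∣_ U) w) ∈ S'
    rw [← Scheme.Hom.comp_apply, morphismRestrict_ι]
    exact hVle hw
  have h1 : ((f ∣_ U).appLE (U.ι ⁻¹ᵁ S') (W.ι ⁻¹ᵁ V) e2).hom ((U.ι.appLE S' (U.ι ⁻¹ᵁ S') le_rfl).hom a') ∈
      (K.comap W.ι).ideal ⟨_, hV'⟩ := by
    refine hD _ ?_
    rw [IdealStalkLib.comap_ideal D (f ∣_ U) hT hV' e2]
    exact Ideal.mem_map_of_mem _ ha
  rw [IdealStalkLib.comap_ideal K W.ι hV hV' le_rfl] at h1
  obtain ⟨x, hx, hxe⟩ := (Ideal.mem_map_iff_of_surjective _ (bijective_appLE_ι W hVW).2).1 h1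
  refine Eq.mp (congrArg (· ∈ _) ((bijective_appLE_ι W hVW).1 (hxe.trans ?_))) hx
  rw [← CategoryTheory.comp_apply, Scheme.Hom.appLE_comp_appLE, ← CategoryTheory.comp_apply (f.appLE S' V hVle),
    Scheme.Hom.appLE_comp_appLE]
  exact congrArg (fun g : CommRingCat.Hom _ _ => g.hom a') (by congr 1; exact morphismRestrict_ι f U)

/-- Over an open, an ideal which comes from the base is the inverse image of its direct image. -/
theorem le_comap_map_of_restrict [QuasiCompact f] (U : X.Opens) (K : X'.IdealSheafData)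
    (D : (U : Scheme.{u}).IdealSheafData) (hD : D.comap (f ∣_ U) = K.comap (f ⁻¹ᵁ U).ι) :
    K.comap (f ⁻¹ᵁ U).ι ≤ ((K.map f).comap f).comap (f ⁻¹ᵁ U).ι := by
  rw [← hD, ← Scheme.IdealSheafData.comap_comp, ← morphismRestrict_ι f U, Scheme.IdealSheafData.comap_comp]
  exact Scheme.IdealSheafData.comap_mono (f ∣_ U) (le_map_of_comap_restrict f U K D hD.le)

/-- An ideal is determined on a cover by opens. -/
theorem le_of_comap_cover {ι : Type*} (W : ι → X.Opens) (hW : ⨆ i, W i = ⊤) {A B : X.IdealSheafData}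
    (h : ∀ i, A.comap (W i).ι ≤ B.comap (W i).ι) : A ≤ B := by
  refine le_of_eq_of_le (Eq.symm ?_) (inf_le_right (a := A))
  refine Scheme.IdealSheafData.ext_of_iSup_eq_top (fun p : Σ i, {V : X.affineOpens // V.1 ≤ W i} => p.2.1) ?_ fun p => ?_
  · refine top_le_iff.1 fun x _ => ?_
    obtain ⟨i, hi⟩ := Opens.mem_iSup.1 (hW.ge (show x ∈ (⊤ : X.Opens) from trivial))
    obtain ⟨V, hV, hxV, hle⟩ := Opens.isBasis_iff_nbhd.mp X.isBasis_affineOpens (U := W i) hi
    exact Opens.mem_iSup.2 ⟨⟨i, ⟨⟨V, hV⟩, hle⟩⟩, hxV⟩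
  · obtain ⟨i, ⟨⟨V, hV⟩, hle⟩⟩ := p
    refine le_antisymm (inf_le_left (b := B) _) ?_
    rw [Scheme.IdealSheafData.ideal_inf, Pi.inf_apply]
    refine le_inf le_rfl ?_
    have h1 := h i ⟨_, isAffineOpen_preimage_ι (W i) hle hV⟩
    rw [IdealStalkLib.comap_ideal A (W i).ι hV _ le_rfl, IdealStalkLib.comap_ideal B (W i).ι hV _ le_rfl,
      Ideal.map_le_iff_le_comap, Ideal.comap_map_of_bijective _ (bijective_appLE_ι (W i) hle)] at h1
    exact h1

/-- An ideal of finite type which comes from the base comes from an ideal of finite type on the base. -/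
theorem exists_ft_le_comap_eq [CompactSpace X] [QuasiSeparatedSpace X] [CompactSpace X'] (P : X.IdealSheafData)
    (hP : FSch.IdealFT (P.comap f)) :
    ∃ M : X.IdealSheafData, M ≤ P ∧ FSch.IdealFT M ∧ M.comap f = P.comap f := by
  classical
  let ι := {p : X'.affineOpens × X.affineOpens // p.1.1 ≤ f ⁻¹ᵁ p.2.1}
  obtain ⟨T, hT⟩ := isCompact_univ.elim_finite_subcover (fun p : ι => (p.1.1.1 : Set X')) (fun p => p.1.1.1.2)
    (fun x _ => Set.mem_iUnion.2 (by
      obtain ⟨S, hS, hfS, -⟩ := Opens.isBasis_iff_nbhd.mp X.isBasis_affineOpens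
        (U := (⊤ : X.Opens)) (x := f x) trivial
      obtain ⟨V, hV, hxV, hle⟩ := Opens.isBasis_iff_nbhd.mp X'.isBasis_affineOpens (U := f ⁻¹ᵁ S) hfS
      exact ⟨⟨(⟨V, hV⟩, ⟨S, hS⟩), hle⟩, hxV⟩))
  have hG : ∀ p : ι, ∃ G : Finset Γ(X, p.1.2.1), (↑G : Set Γ(X, p.1.2.1)) ⊆ (P.ideal p.1.2 : Set Γ(X, p.1.2.1)) ∧
      (P.comap f).ideal p.1.1 ≤ (Ideal.span (G : Set Γ(X, p.1.2.1))).map (f.appLE _ _ p.2).hom := fun p => by
    obtain ⟨s, hs⟩ := hP p.1.1
    have e := IdealStalkLib.comap_ideal P f p.1.2.2 p.1.1.2 p.2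
    have hfin : ∀ x ∈ s, ∃ G : Finset Γ(X, p.1.2.1), (↑G : Set Γ(X, p.1.2.1)) ⊆ (P.ideal p.1.2 : Set Γ(X, p.1.2.1)) ∧
        x ∈ (Ideal.span (G : Set Γ(X, p.1.2.1))).map (f.appLE _ _ p.2).hom := fun x hx => by
      have hx' : x ∈ Ideal.span ((f.appLE _ _ p.2).hom '' (P.ideal p.1.2 : Set Γ(X, p.1.2.1))) :=
        e.le (hs.le (Ideal.subset_span hx))
      obtain ⟨T, hTs, hxT⟩ := Submodule.mem_span_finite_of_mem_span hx'
      obtain ⟨G, hGP, rfl⟩ := Finset.subset_set_image_iff.1 hTs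
      refine ⟨G, hGP, ?_⟩
      rw [Ideal.map_span, ← Finset.coe_image]
      exact hxT
    choose G hGP hG using hfin
    refine ⟨s.attach.biUnion fun x => G x.1 x.2, fun a ha => ?_, ?_⟩
    · obtain ⟨x, -, hx⟩ := Finset.mem_biUnion.1 ha
      exact hGP x.1 x.2 hx
    · rw [← hs, Ideal.span_le]
      intro x hx
      refine Ideal.map_mono (Ideal.span_mono ?_) (hG x hx)
      exact_mod_cast Finset.subset_biUnion_of_mem (fun x : s => G x.1 x.2) (Finset.mem_attach s ⟨x, hx⟩)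
  choose G hGP hG using hG
  choose! L hLP hLft hLmem using fun (p : ι) (a : Γ(X, p.1.2.1)) (ha : a ∈ P.ideal p.1.2) =>
    FTIdealLib.exists_ft_le_mem P p.1.2 ha
  let M : X.IdealSheafData := T.sup fun p => (G p).sup fun a => L p a
  have hMP : M ≤ P := Finset.sup_le fun p _ => Finset.sup_le fun a ha => hLP p a (hGP p ha)
  have hbot : FSch.IdealFT (⊥ : X.IdealSheafData) := fun V => by
    rw [Scheme.IdealSheafData.ideal_bot]; exact Submodule.fg_bot
  have hsup : ∀ I₁, FSch.IdealFT I₁ → ∀ I₂ : X.IdealSheafData, FSch.IdealFT I₂ → FSch.IdealFT (I₁ ⊔ I₂) :=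
    fun I₁ h₁ I₂ h₂ V => by
    rw [Scheme.IdealSheafData.ideal_sup, Pi.sup_apply]; exact Submodule.FG.sup (h₁ V) (h₂ V)
  refine ⟨M, hMP, Finset.sup_induction hbot hsup fun p _ => Finset.sup_induction hbot hsup
    fun a ha => hLft p a (hGP p ha), le_antisymm (Scheme.IdealSheafData.comap_mono f hMP) ?_⟩
  refine le_of_eq (Eq.symm (Scheme.IdealSheafData.ext_of_iSup_eq_top (fun p : {p : ι // p ∈ T} => p.1.1.1) ?_ fun p => ?_))
  · refine top_le_iff.1 fun x _ => ?_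
    obtain ⟨p, hp, hxp⟩ := Set.mem_iUnion₂.1 (hT (Set.mem_univ x))
    exact Opens.mem_iSup.2 ⟨⟨p, hp⟩, hxp⟩
  · refine le_antisymm (Scheme.IdealSheafData.comap_mono f hMP _) ((hG p.1).trans ?_)
    rw [IdealStalkLib.comap_ideal M f p.1.1.2.2 p.1.1.1.2 p.1.2]
    refine Ideal.map_mono (Ideal.span_le.2 fun a ha => ?_)
    have h1 : L p.1 a ≤ M :=
      (Finset.le_sup (f := fun a => L p.1 a) ha).trans (Finset.le_sup (f := fun p => (G p).sup fun a => L p a) p.2)
    exact h1 _ (hLmem p.1 a (hGP p.1 ha))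

theorem idealFT_mul {A B : X.IdealSheafData} (hA : FSch.IdealFT A) (hB : FSch.IdealFT B) : FSch.IdealFT (A * B) :=
  fun V => by
  rw [Scheme.IdealSheafData.ideal_mul, Pi.mul_apply]
  exact (hA V).mul (hB V)

theorem idealFT_pow {A : X.IdealSheafData} (hA : FSch.IdealFT A) (m : ℕ) : FSch.IdealFT (A ^ m) := fun V => by
  rw [Scheme.IdealSheafData.ideal_pow, Pi.pow_apply]
  exact (hA V).pow

end Groth.Agent.BlowTwistLib
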